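import Mathlib

/-! Sylow 2-subgroups of symmetric and alternating groups are self-normalizing. -/

set_option autoImplicit false
set_option linter.style.haveILetI false

open Equiv Equiv.Perm

namespace CfsgLib.SymTwo

variable {α : Type*} [Fintype α] [DecidableEq α]

/-- The cycle type of an involution with at most one fixed point. -/
def maxInvType (α : Type*) [Fintype α] : Multiset ℕ :=
  Multiset.replicate (Fintype.card α / 2) 2

theorem mul_self_of_type {z : Perm α} (hz : z.cycleType = maxInvType α) : z * z = 1 := by
  have h : orderOf z ∣ 2 := by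
    rw [← lcm_cycleType, Multiset.lcm_dvd]
    intro b hb
    rw [hz] at hb
    rw [Multiset.eq_of_mem_replicate hb]
  rw [← pow_two]
  exact orderOf_dvd_iff_pow_eq_one.mp h

theorem card_support_cycle {z c : Perm α} (hz : z.cycleType = maxInvType α)
    (hc : c ∈ z.cycleFactorsFinset) : c.support.card = 2 := by
  have : c.support.card ∈ z.cycleType := by
    rw [cycleType_def]
    exact Multiset.mem_map_of_mem _ hc
  rw [hz] at this
  exact Multiset.eq_of_mem_replicate this

theorem support_cycleOf_pair {z : Perm α} (hz : z.cycleType = maxInvType α) {a : α}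
    (ha : a ∈ z.support) : (z.cycleOf a).support = {a, z a} := by
  have hc := cycleOf_mem_cycleFactorsFinset_iff.mpr ha
  have hne : z a ≠ a := mem_support.mp ha
  have h1 : a ∈ (z.cycleOf a).support := by
    rw [mem_support, cycleOf_apply_self]; exact hne
  have h2 : z a ∈ (z.cycleOf a).support := by
    have := apply_mem_support.mpr h1
    rwa [cycleOf_apply_self] at this
  refine (Finset.eq_of_subset_of_card_le ?_ ?_).symm
  · intro x hx
    rcases Finset.mem_insert.mp hx with rfl | hx
    · exact h1
    · rw [Finset.mem_singleton.mp hx]; exact h2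
  · rw [card_support_cycle hz hc, Finset.card_insert_of_notMem (by simpa using Ne.symm hne),
      Finset.card_singleton]

theorem card_support_maxInv {z : Perm α} (hz : z.cycleType = maxInvType α) :
    z.support.card = 2 * (Fintype.card α / 2) := by
  rw [← sum_cycleType, hz, maxInvType, Multiset.sum_replicate, smul_eq_mul, mul_comm]

theorem card_cycles_maxInv {z : Perm α} (hz : z.cycleType = maxInvType α) :
    z.cycleFactorsFinset.card = Fintype.card α / 2 := by
  have h := congrArg Multiset.card hz
  rw [cycleType_def, Multiset.card_map, maxInvType, Multiset.card_replicate] at h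
  exact h

theorem commute_mem_support {x y : Perm α} (h : Commute x y) {a : α} (ha : a ∈ x.support) :
    y a ∈ x.support := by
  rw [mem_support] at ha ⊢
  intro he
  apply ha
  apply y.injective
  have := congrArg (fun e : Perm α => e a) h.eq
  simp only [Perm.mul_apply] at this
  rw [← this, he]

theorem conj_eq_self_of_pairs {z : Perm α} (hz : z.cycleType = maxInvType α) (g : Perm α)
    (h : ∀ a ∈ z.support, (g * z * g⁻¹) a ∈ (z.cycleOf a).support) : g * z * g⁻¹ = z := by
  set w := g * z * g⁻¹ with hw
  have hww : ∀ x, w (w x) = x := by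
    intro x
    have : w * w = 1 := by
      rw [hw]; simp [mul_assoc]; rw [← mul_assoc z z, mul_self_of_type hz]; simp
    rw [← Perm.mul_apply, this, Perm.one_apply]
  have hfix : ∀ e, e ∉ z.support → w e = e := by
    intro e he
    by_contra hne
    by_cases hm : w e ∈ z.support
    · have := h _ hm
      rw [hww, support_cycleOf_pair hz hm] at this
      rcases Finset.mem_insert.mp this with h1 | h1
      · exact hne h1.symm
      · rw [Finset.mem_singleton.mp h1] at he
        exact he (apply_mem_support.mpr hm)
    · have hc : (insert e {w e} : Finset α) ⊆ z.supportᶜ := by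
        intro x hx
        rcases Finset.mem_insert.mp hx with rfl | hx
        · simpa using he
        · rw [Finset.mem_singleton.mp hx]; simpa using hm
      have := Finset.card_le_card hc
      rw [Finset.card_insert_of_notMem (by simpa using Ne.symm hne), Finset.card_singleton,
        Finset.card_compl, card_support_maxInv hz] at this
      omega
  have hsupp : w.support = z.support := by
    apply Finset.eq_of_subset_of_card_le
    · intro x hx
      by_contra hx'
      exact (mem_support.mp hx) (hfix x hx')
    · rw [hw, support_conj, Finset.card_map]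
  ext a
  by_cases ha : a ∈ z.support
  · have := h a ha
    rw [support_cycleOf_pair hz ha] at this
    rcases Finset.mem_insert.mp this with h1 | h1
    · exact absurd h1 (mem_support.mp (hsupp ▸ ha))
    · exact Finset.mem_singleton.mp h1
  · rw [hfix a ha, notMem_support.mp ha]

/-- Every Sylow 2-subgroup centralizes an involution with at most one fixed point. -/
theorem exists_central_maxInv (T : Sylow 2 (Perm α)) :
    ∃ z : Perm α, z.cycleType = maxInvType α ∧ (T : Subgroup (Perm α)) ≤ Subgroup.centralizer {z} := by
  haveI : Fact (Nat.Prime 2) := ⟨Nat.prime_two⟩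
  set m := Fintype.card α / 2 with hm
  obtain ⟨z, hz⟩ := (exists_with_cycleType_iff α (m := maxInvType α)).mpr ⟨by
      rw [maxInvType, Multiset.sum_replicate, smul_eq_mul]; omega,
    fun a ha => le_of_eq (Multiset.eq_of_mem_replicate ha).symm⟩
  have hidx : ¬ 2 ∣ (Subgroup.centralizer {z}).index := by
    have hC := nat_card_centralizer z
    have hfact : ∏ n ∈ (maxInvType α).toFinset, ((maxInvType α).count n).factorial = m.factorial := by
      rcases Nat.eq_zero_or_pos m with h0 | h0
      · simp [maxInvType, ← hm, h0]
      · rw [maxInvType, ← hm, Multiset.toFinset_replicate, if_neg h0.ne', Finset.prod_singleton,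
          Multiset.count_replicate_self]
    have hone : (Fintype.card α - (maxInvType α).sum).factorial = 1 := by
      apply Nat.factorial_eq_one.mpr
      rw [maxInvType, Multiset.sum_replicate, smul_eq_mul]; omega
    rw [hz, hfact, hone, maxInvType, Multiset.prod_replicate, one_mul, ← hm] at hC
    have hmul := (Subgroup.centralizer {z}).card_mul_index
    rw [Nat.card_eq_fintype_card (α := Perm α), Fintype.card_perm, hC] at hmul
    intro hdvd
    have hi : (Subgroup.centralizer {z}).index ≠ 0 := Subgroup.index_ne_zero_of_finite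
    have h1 : 1 ≤ padicValNat 2 (Subgroup.centralizer {z}).index :=
      one_le_padicValNat_of_dvd hi hdvd
    have hv := congrArg (padicValNat 2) hmul
    rw [padicValNat.mul (mul_ne_zero (pow_ne_zero _ two_ne_zero) m.factorial_ne_zero) hi,
      padicValNat.mul (pow_ne_zero _ two_ne_zero) m.factorial_ne_zero, padicValNat.prime_pow] at hv
    have hn : padicValNat 2 (Fintype.card α).factorial = padicValNat 2 m.factorial + m := by
      conv_lhs => rw [← Nat.div_add_mod (Fintype.card α) 2]
      rw [padicValNat_factorial_mul_add _ (Nat.mod_lt _ two_pos), padicValNat_factorial_mul]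
    omega
  obtain ⟨S⟩ : Nonempty (Sylow 2 (Subgroup.centralizer {z})) := inferInstance
  have hS : ¬ 2 ∣ ((S : Subgroup _).map (Subgroup.centralizer {z}).subtype).index := by
    rw [Subgroup.index_map_subtype]
    exact Nat.prime_two.not_dvd_mul S.not_dvd_index hidx
  obtain ⟨g, hg⟩ := MulAction.exists_smul_eq (Perm α) ((S.2.map _).toSylow hS) T
  refine ⟨g * z * g⁻¹, by rw [cycleType_conj, hz], ?_⟩
  intro t ht
  rw [← hg, Sylow.coe_subgroup_smul] at ht
  obtain ⟨s, hs, rfl⟩ := ht
  obtain ⟨⟨u, hu⟩, -, rfl⟩ := hs
  rw [Subgroup.mem_centralizer_singleton_iff] at hu ⊢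
  simp only [Subgroup.coe_subtype, MulDistribMulAction.toMonoidEnd_apply,
    MulDistribMulAction.toMonoidHom_apply, MulAut.smul_def, MulAut.conj_apply]
  simp only [mul_assoc, inv_mul_cancel_left, mul_right_inj]
  simp only [← mul_assoc, hu]

theorem toPermHom_surjective {z : Perm α} (hz : z.cycleType = maxInvType α) :
    Function.Surjective (OnCycleFactors.toPermHom z) := fun τ =>
  OnCycleFactors.mem_range_toPermHom_iff.mpr fun c => by
    rw [card_support_cycle hz (τ c).2, card_support_cycle hz c.2]

theorem ker_isPGroup {z : Perm α} (hz : z.cycleType = maxInvType α) :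
    IsPGroup 2 (OnCycleFactors.toPermHom z).ker := by
  apply IsPGroup.of_card (n := Fintype.card α / 2)
  have h := OnCycleFactors.kerParam_range_card z
  rw [← Nat.card_eq_fintype_card, OnCycleFactors.kerParam_range_eq, Subgroup.card_subtype, hz] at h
  rw [h, maxInvType, Multiset.sum_replicate, Multiset.prod_replicate, smul_eq_mul,
    Nat.factorial_eq_one.mpr (by omega), one_mul]

theorem ker_le_sylow {z : Perm α} (hz : z.cycleType = maxInvType α)
    (T : Sylow 2 (Perm α)) (hT : (T : Subgroup (Perm α)) ≤ Subgroup.centralizer {z}) :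
    (OnCycleFactors.toPermHom z).ker ≤ ((T.subtype hT : Sylow 2 (Subgroup.centralizer {z})) :
      Subgroup (Subgroup.centralizer {z})) := by
  have h := IsPGroup.to_sup_of_normal_right (T.subtype hT).2 (ker_isPGroup hz)
  exact le_trans le_sup_right (le_of_eq ((T.subtype hT).3 h le_sup_left))

theorem cycle_mem_sylow {z : Perm α} (hz : z.cycleType = maxInvType α)
    (T : Sylow 2 (Perm α)) (hT : (T : Subgroup (Perm α)) ≤ Subgroup.centralizer {z})
    {c : Perm α} (hc : c ∈ z.cycleFactorsFinset) : c ∈ (T : Subgroup (Perm α)) := by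
  have hcz : c ∈ Subgroup.centralizer {z} :=
    Subgroup.mem_centralizer_singleton_iff.mpr (self_mem_cycle_factors_commute hc).eq
  have hk : (⟨c, hcz⟩ : Subgroup.centralizer {z}) ∈ (OnCycleFactors.toPermHom z).ker := by
    rw [OnCycleFactors.mem_ker_toPermHom_iff]
    exact fun d hd => cycleFactorsFinset_mem_commute' z hc hd
  exact Subgroup.mem_subgroupOf.mp (ker_le_sylow hz T hT hk)

omit [Fintype α] [DecidableEq α] in
private theorem commute_conj_of_mem {P : Subgroup (Perm α)} {g z x : Perm α}
    (hg : g ∈ Subgroup.normalizer (P : Set (Perm α))) (hPz : P ≤ Subgroup.centralizer {z})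
    (hx : x ∈ P) : Commute x (g * z * g⁻¹) := by
  have hg' := Subgroup.inv_mem _ hg
  have h := Subgroup.mem_centralizer_singleton_iff.mp
    (hPz ((Subgroup.mem_normalizer_iff.mp hg' x).mp hx))
  rw [inv_inv] at h
  calc x * (g * z * g⁻¹) = g * ((g⁻¹ * x * g) * z) * g⁻¹ := by group
    _ = g * (z * (g⁻¹ * x * g)) * g⁻¹ := by rw [h]
    _ = (g * z * g⁻¹) * x := by group

theorem sylow_normalizer_le_aux : ∀ (n : ℕ) {β : Type*} [Fintype β] [DecidableEq β],
    Fintype.card β = n → ∀ (T : Sylow 2 (Perm β)) (g : Perm β),
    g ∈ Subgroup.normalizer ((T : Subgroup (Perm β)) : Set (Perm β)) →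
    g ∈ (T : Subgroup (Perm β)) := by
  intro n
  induction n using Nat.strong_induction_on with
  | _ n ih =>
    intro β _ _ hn T g hg
    haveI : Fact (Nat.Prime 2) := ⟨Nat.prime_two⟩
    rcases Nat.eq_zero_or_pos n with rfl | hpos
    · haveI : IsEmpty β := Fintype.card_eq_zero_iff.mp hn
      rw [Subsingleton.elim g 1]; exact one_mem _
    obtain ⟨z, hz, hT⟩ := exists_central_maxInv T
    have hgz : g * z * g⁻¹ = z := by
      apply conj_eq_self_of_pairs hz
      intro a ha
      have hc := cycleOf_mem_cycleFactorsFinset_iff.mpr ha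
      exact commute_mem_support (commute_conj_of_mem hg hT (cycle_mem_sylow hz T hT hc))
        (by rw [support_cycleOf_pair hz ha]; exact Finset.mem_insert_self _ _)
    have hgC : g ∈ Subgroup.centralizer {z} := by
      rw [Subgroup.mem_centralizer_singleton_iff]
      calc g * z = g * z * g⁻¹ * g := by group
        _ = z * g := by rw [hgz]
    set f := OnCycleFactors.toPermHom z
    let S := (T.subtype hT).mapSurjective (toPermHom_surjective hz)
    have hN : f ⟨g, hgC⟩ ∈ Subgroup.normalizer
        ((S : Subgroup (Perm z.cycleFactorsFinset)) : Set (Perm z.cycleFactorsFinset)) := by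
      rw [Sylow.coe_mapSurjective]
      have hgn : (⟨g, hgC⟩ : Subgroup.centralizer {z}) ∈
          Subgroup.normalizer (((T.subtype hT : Sylow 2 (Subgroup.centralizer {z})) : Subgroup (Subgroup.centralizer {z})) : Set (Subgroup.centralizer {z})) := by
        apply Subgroup.mem_normalizer_iff.mpr
        intro x
        simp only [Sylow.coe_subtype, Subgroup.mem_subgroupOf]
        exact Subgroup.mem_normalizer_iff.mp hg x
      exact Subgroup.le_normalizer_map f (Subgroup.mem_map_of_mem f hgn)
    have hmem := ih (Fintype.card β / 2) (by omega) (β := z.cycleFactorsFinset)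
      (by rw [Fintype.card_coe, card_cycles_maxInv hz]) S _ hN
    rw [Sylow.coe_mapSurjective] at hmem
    obtain ⟨x, hx, hxg⟩ := hmem
    have hker : x⁻¹ * ⟨g, hgC⟩ ∈ f.ker := by
      rw [MonoidHom.mem_ker, map_mul, map_inv, hxg, inv_mul_cancel]
    have := Subgroup.mul_mem _ hx (ker_le_sylow hz T hT hker)
    rw [mul_inv_cancel_left, Sylow.coe_subtype, Subgroup.mem_subgroupOf] at this
    exact this

theorem sylow_two_perm_normalizer_le (T : Sylow 2 (Perm α)) :
    Subgroup.normalizer ((T : Subgroup (Perm α)) : Set (Perm α)) ≤ (T : Subgroup (Perm α)) :=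
  fun g hg => sylow_normalizer_le_aux _ rfl T g hg

/-- The Sylow 2-subgroups of an alternating group of degree at least 6 are self-normalizing. -/
theorem sylow_two_alt_normalizer_le (h6 : 6 ≤ Fintype.card α)
    (P : Sylow 2 (alternatingGroup α)) :
    Subgroup.normalizer ((P : Subgroup (alternatingGroup α)) : Set (alternatingGroup α)) ≤
      (P : Subgroup (alternatingGroup α)) := by
  haveI : Fact (Nat.Prime 2) := ⟨Nat.prime_two⟩
  intro g hg
  set P' := (P : Subgroup (alternatingGroup α)).map (alternatingGroup α).subtype with hP'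
  obtain ⟨T, hPT⟩ := (P.2.map (alternatingGroup α).subtype).exists_le_sylow
  have hback : ∀ x : alternatingGroup α, (x : Perm α) ∈ (T : Subgroup (Perm α)) →
      x ∈ (P : Subgroup (alternatingGroup α)) := by
    intro x hx
    have h := P.3 (T.2.comap_of_injective (alternatingGroup α).subtype Subtype.val_injective)
      (Subgroup.map_le_iff_le_comap.mp hPT)
    rw [← h]; exact hx
  have hmemP' : ∀ x : Perm α, x ∈ (T : Subgroup (Perm α)) → Perm.sign x = 1 → x ∈ P' := by
    intro x hx hs
    exact ⟨⟨x, mem_alternatingGroup.mpr hs⟩, hback _ hx, rfl⟩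
  have hgN : (g : Perm α) ∈ Subgroup.normalizer (P' : Set (Perm α)) :=
    Subgroup.le_normalizer_map (alternatingGroup α).subtype ⟨g, hg, rfl⟩
  obtain ⟨z, hz, hT⟩ := exists_central_maxInv T
  have hsign : ∀ c ∈ z.cycleFactorsFinset, Perm.sign c = -1 := fun c hc =>
    (card_support_eq_two.mp (card_support_cycle hz hc)).sign_eq
  have hgz : (g : Perm α) * z * (g : Perm α)⁻¹ = z := by
    apply conj_eq_self_of_pairs hz
    intro a ha
    have hc := cycleOf_mem_cycleFactorsFinset_iff.mpr ha
    set c := z.cycleOf a
    have hca : a ∈ c.support := by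
      rw [support_cycleOf_pair hz ha]; exact Finset.mem_insert_self _ _
    have key : ∀ d ∈ z.cycleFactorsFinset, d ≠ c →
        ((g : Perm α) * z * (g : Perm α)⁻¹) a ∈ c.support ∨
        ((g : Perm α) * z * (g : Perm α)⁻¹) a ∈ d.support := by
      intro d hd hdc
      have hdisj := cycleFactorsFinset_pairwise_disjoint z hc hd hdc.symm
      have hmem : c * d ∈ P' := hmemP' _
        (Subgroup.mul_mem _ (cycle_mem_sylow hz T hT hc) (cycle_mem_sylow hz T hT hd))
        (by rw [map_mul, hsign c hc, hsign d hd]; simp)
      have h := commute_mem_support (commute_conj_of_mem hgN (hPT.trans hT) hmem) (a := a)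
        (by rw [hdisj.support_mul]; exact Finset.mem_union_left _ hca)
      rw [hdisj.support_mul] at h
      exact Finset.mem_union.mp h
    have hcard : 1 < (z.cycleFactorsFinset.erase c).card := by
      rw [Finset.card_erase_of_mem hc, card_cycles_maxInv hz]; omega
    obtain ⟨d, hd, e, he, hde⟩ := Finset.one_lt_card.mp hcard
    rw [Finset.mem_erase] at hd he
    rcases key d hd.2 hd.1 with h | h
    · exact h
    rcases key e he.2 he.1 with h' | h'
    · exact h'
    have := cycleFactorsFinset_pairwise_disjoint z hd.2 he.2 hde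
    rw [disjoint_iff_disjoint_support, Finset.disjoint_left] at this
    exact absurd h' (this h)
  have hgC : (g : Perm α) ∈ Subgroup.centralizer {z} := by
    rw [Subgroup.mem_centralizer_singleton_iff]
    calc (g : Perm α) * z = (g : Perm α) * z * (g : Perm α)⁻¹ * g := by group
      _ = z * g := by rw [hgz]
  obtain ⟨c, hc⟩ : z.cycleFactorsFinset.Nonempty := by
    rw [← Finset.card_pos, card_cycles_maxInv hz]; omega
  have hcT := cycle_mem_sylow hz T hT hc
  have hconjc : (g : Perm α) * c * (g : Perm α)⁻¹ ∈ (T : Subgroup (Perm α)) := by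
    have hcz : c ∈ Subgroup.centralizer {z} :=
      Subgroup.mem_centralizer_singleton_iff.mpr (self_mem_cycle_factors_commute hc).eq
    have hk : (⟨c, hcz⟩ : Subgroup.centralizer {z}) ∈ (OnCycleFactors.toPermHom z).ker := by
      rw [OnCycleFactors.mem_ker_toPermHom_iff]
      exact fun d hd => cycleFactorsFinset_mem_commute' z hc hd
    have h2 := (inferInstance : ((OnCycleFactors.toPermHom z).ker).Normal).conj_mem _ hk ⟨g, hgC⟩
    exact Subgroup.mem_subgroupOf.mp (ker_le_sylow hz T hT h2)
  have hconj : ∀ t ∈ (T : Subgroup (Perm α)),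
      (g : Perm α) * t * (g : Perm α)⁻¹ ∈ (T : Subgroup (Perm α)) := by
    intro t ht
    rcases Int.units_eq_one_or (Perm.sign t) with hs | hs
    · exact hPT ((Subgroup.mem_normalizer_iff.mp hgN t).mp (hmemP' t ht hs))
    · have h1 := hPT ((Subgroup.mem_normalizer_iff.mp hgN _).mp (hmemP' (t * c)
        (Subgroup.mul_mem _ ht hcT) (by rw [map_mul, hs, hsign c hc]; simp)))
      have h2 := Subgroup.mul_mem _ h1 (Subgroup.inv_mem _ hconjc)
      have e : (g : Perm α) * (t * c) * (g : Perm α)⁻¹ * ((g : Perm α) * c * (g : Perm α)⁻¹)⁻¹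
          = (g : Perm α) * t * (g : Perm α)⁻¹ := by group
      rwa [e] at h2
  have hgNT : (g : Perm α) ∈ Subgroup.normalizer ((T : Subgroup (Perm α)) : Set (Perm α)) := by
    rw [Subgroup.mem_normalizer_iff]
    have hle : (T : Subgroup (Perm α)).map (MulAut.conj (g : Perm α)).toMonoidHom ≤ T := by
      rintro _ ⟨t, ht, rfl⟩; exact hconj t ht
    have heq := Subgroup.eq_of_le_of_card_ge hle
      (le_of_eq (Subgroup.card_map_of_injective (MulAut.conj (g : Perm α)).injective).symm)
    intro t
    refine ⟨hconj t, fun ht => ?_⟩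
    rw [← heq] at ht
    obtain ⟨u, hu, hue⟩ := ht
    simp only [MulEquiv.coe_toMonoidHom, MulAut.conj_apply, mul_left_inj, mul_right_inj] at hue
    exact hue ▸ hu
  exact hback g (sylow_two_perm_normalizer_le T hgNT)

end CfsgLib.SymTwo
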