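import Cfsg.Prelude.Def_HallClasses
import Mathlib

/-! A criterion for pronormality of subgroups containing a Sylow subgroup. -/

set_option autoImplicit false
set_option linter.style.haveILetI false

namespace CfsgLib.SymTwo

variable {G : Type*} [Group G] [Finite G] {p : ℕ} [Fact p.Prime]

theorem exists_sylow_le_of_not_dvd_index (H : Subgroup G) (hH : ¬ p ∣ H.index) :
    ∃ P : Sylow p G, (P : Subgroup G) ≤ H := by
  obtain ⟨S⟩ : Nonempty (Sylow p H) := inferInstance
  have hS : ¬ p ∣ ((S : Subgroup H).map H.subtype).index := by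
    rw [Subgroup.index_map_subtype]
    exact (Fact.out : p.Prime).not_dvd_mul S.not_dvd_index hH
  exact ⟨(S.2.map _).toSylow hS, Subgroup.map_subtype_le _⟩

/-- If the normalizer of a Sylow subgroup contained in `H` normalizes `H`, then `H` is pronormal. -/
theorem pronormal_of_sylow_normalizer_le (P : Sylow p G) (H : Subgroup G)
    (hPH : (P : Subgroup G) ≤ H)
    (hN : ∀ g ∈ Subgroup.normalizer ((P : Subgroup G) : Set G),
      H.map (MulAut.conj g).toMonoidHom = H) : Cfsg.IsPronormal H := by
  intro g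
  set K := H ⊔ H.map (MulAut.conj g).toMonoidHom
  have h1 : (P : Subgroup G) ≤ K := hPH.trans le_sup_left
  have h2 : ((g • P : Sylow p G) : Subgroup G) ≤ K := by
    rintro x ⟨y, hy, rfl⟩
    exact (le_sup_right : _ ≤ K) ⟨y, hPH hy, rfl⟩
  obtain ⟨k, hk⟩ := MulAction.exists_smul_eq K ((g • P).subtype h2) (P.subtype h1)
  rw [Sylow.smul_subtype] at hk
  have hkg : ((k : G) * g) • P = P := by
    rw [mul_smul]; exact Sylow.subtype_injective hk
  have hmem : (k : G) * g ∈ Subgroup.normalizer ((P : Subgroup G) : Set G) :=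
    Sylow.smul_eq_iff_mem_normalizer.mp hkg
  refine ⟨(k⁻¹ : K), SetLike.coe_mem _, ?_⟩
  conv_rhs => rw [← hN _ hmem]
  rw [Subgroup.map_map]
  congr 1
  ext x
  simp [mul_assoc]

end CfsgLib.SymTwo
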