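import Cfsg.Agent.Lib.SymTwo.SylowTwo

/-!
Elements of symmetric groups lying in exactly one Sylow 2-subgroup.
-/

set_option autoImplicit false
open Equiv Equiv.Perm Function

namespace CfsgLib.SymTwo

variable {α : Type*} [Fintype α] [DecidableEq α]

/-- An involution with at most one fixed point. -/
structure Halving (z : Perm α) : Prop where
  mul_self : z * z = 1
  fixed_le : {a | z a = a}.ncard ≤ 1

theorem Halving.apply_apply {z : Perm α} (hz : Halving z) (a : α) : z (z a) = a :=
  congrArg (fun e : Perm α => e a) hz.mul_self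

theorem Halving.cycleType_eq {z : Perm α} (hz : Halving z) : z.cycleType = maxInvType α := by
  have hall : ∀ i ∈ z.cycleType, i = 2 := by
    intro i hi
    have h1 := two_le_of_mem_cycleType hi
    have h2 : orderOf z ∣ 2 := orderOf_dvd_of_pow_eq_one (by rw [pow_two, hz.mul_self])
    have := Nat.le_of_dvd (by norm_num) ((dvd_of_mem_cycleType hi).trans h2)
    omega
  have hrep : z.cycleType = Multiset.replicate z.cycleType.card 2 := Multiset.eq_replicate.2 ⟨rfl, hall⟩
  have hsum := sum_cycleType z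
  rw [hrep, Multiset.sum_replicate, smul_eq_mul] at hsum
  have hfix := hz.fixed_le
  have h1 : {a | z a = a} = ((z.supportᶜ : Finset α) : Set α) := by ext a; simp
  rw [h1, Set.ncard_coe_finset, Finset.card_compl] at hfix
  have := Finset.card_le_univ z.support
  rw [hrep, maxInvType]
  congr 1
  omega

theorem halving_of_cycleType {z : Perm α} (hz : z.cycleType = maxInvType α) : Halving z := by
  refine ⟨mul_self_of_type hz, ?_⟩
  have h1 : {a | z a = a} = ((z.supportᶜ : Finset α) : Set α) := by ext a; simp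
  rw [h1, Set.ncard_coe_finset, Finset.card_compl, card_support_maxInv hz]
  omega

theorem Halving.ncard_moved {z : Perm α} (hz : Halving z) :
    (Finset.univ.filter fun a => z a ≠ a).card = 2 * (Fintype.card α / 2) := by
  rw [← card_support_maxInv hz.cycleType_eq]
  congr 1

theorem exists_halving_of_sylow (T : Sylow 2 (Perm α)) :
    ∃ z : Perm α, Halving z ∧ (T : Subgroup (Perm α)) ≤ Subgroup.centralizer {z} := by
  obtain ⟨z, hz, hT⟩ := exists_central_maxInv T
  exact ⟨z, halving_of_cycleType hz, hT⟩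

theorem exists_sylow_le_centralizer {z x : Perm α} (hz : Halving z) (hxz : Commute x z)
    (hx : ∃ k : ℕ, orderOf x = 2 ^ k) :
    ∃ T : Sylow 2 (Perm α), x ∈ T ∧ (T : Subgroup (Perm α)) ≤ Subgroup.centralizer {z} := by
  have : Fact (Nat.Prime 2) := ⟨Nat.prime_two⟩
  obtain ⟨T0⟩ : Nonempty (Sylow 2 (Perm α)) := inferInstance
  obtain ⟨z0, hz0, hT0⟩ := exists_halving_of_sylow T0
  obtain ⟨g, hg⟩ := isConj_iff.1 (isConj_iff_cycleType_eq.2 (hz0.cycleType_eq.trans hz.cycleType_eq.symm))
  set C := Subgroup.centralizer ({z} : Set (Perm α)) with hC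
  have hT1 : ((g • T0 : Sylow 2 (Perm α)) : Subgroup (Perm α)) ≤ C := by
    rintro _ ⟨t, ht, rfl⟩
    change g * t * g⁻¹ ∈ C
    have h1 : t * z0 = z0 * t := Subgroup.mem_centralizer_singleton_iff.1 (hT0 ht)
    rw [hC, Subgroup.mem_centralizer_singleton_iff, ← hg]
    calc g * t * g⁻¹ * (g * z0 * g⁻¹) = g * (t * z0) * g⁻¹ := by group
      _ = g * (z0 * t) * g⁻¹ := by rw [h1]
      _ = g * z0 * g⁻¹ * (g * t * g⁻¹) := by group
  have hxC : x ∈ C := Subgroup.mem_centralizer_singleton_iff.2 hxz
  obtain ⟨k, hk⟩ := hx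
  have hp : IsPGroup 2 (Subgroup.zpowers (⟨x, hxC⟩ : C)) :=
    IsPGroup.of_card (n := k) (by rw [Nat.card_zpowers, Subgroup.orderOf_mk, hk])
  obtain ⟨S, hS⟩ := hp.exists_le_sylow
  obtain ⟨c, hc⟩ := MulAction.exists_smul_eq C ((g • T0).subtype hT1) S
  rw [Sylow.smul_subtype] at hc
  refine ⟨c • g • T0, ?_, ?_⟩
  · have h : (⟨x, hxC⟩ : C) ∈ (((c • g • T0).subtype (Sylow.smul_le hT1 c) : Sylow 2 C) : Subgroup C) := by
      rw [hc]
      exact hS (Subgroup.mem_zpowers _)
    exact h
  · exact Sylow.smul_le hT1 c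

/-- A permutation whose cycles have distinct lengths and with at most two fixed points. -/
structure Distinct (x : Perm α) : Prop where
  fixed_le : {a | x a = a}.ncard ≤ 2
  sameCycle : ∀ a b, x a ≠ a → minimalPeriod x a = minimalPeriod x b → x.SameCycle a b

theorem zpow_apply_eq_iff_dvd (x : Perm α) (a : α) (i : ℤ) :
    (x ^ i) a = a ↔ (minimalPeriod x a : ℤ) ∣ i :=
  MulAction.zpow_smul_eq_iff_minimalPeriod_dvd (a := x) (b := a)

theorem pow_apply_eq_iff_dvd (x : Perm α) (a : α) (i : ℕ) :
    (x ^ i) a = a ↔ minimalPeriod x a ∣ i :=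
  MulAction.pow_smul_eq_iff_minimalPeriod_dvd (a := x) (b := a)

theorem period_eq_two_pow (x : Perm α) (hx : ∃ k : ℕ, orderOf x = 2 ^ k) (a : α) :
    ∃ u, minimalPeriod x a = 2 ^ u := by
  obtain ⟨k, hk⟩ := hx
  have h : minimalPeriod x a ∣ 2 ^ k := by
    rw [← pow_apply_eq_iff_dvd, ← hk, pow_orderOf_eq_one, one_apply]
  obtain ⟨u, -, hu⟩ := (Nat.dvd_prime_pow Nat.prime_two).1 h
  exact ⟨u, hu⟩

theorem period_eq_one_iff (x : Perm α) (a : α) : minimalPeriod x a = 1 ↔ x a = a :=
  minimalPeriod_eq_one_iff_isFixedPt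

theorem period_apply_of_commute {x y : Perm α} (h : Commute x y) (a : α) :
    minimalPeriod x (y a) = minimalPeriod x a := by
  apply Nat.dvd_antisymm <;> rw [← pow_apply_eq_iff_dvd]
  · rw [← mul_apply, (h.pow_left _).eq, mul_apply, (pow_apply_eq_iff_dvd x a _).2 dvd_rfl]
  · apply y.injective
    rw [← mul_apply, ← (h.pow_left _).eq, mul_apply, (pow_apply_eq_iff_dvd x (y a) _).2 dvd_rfl]

theorem Halving.apply_ne {z x : Perm α} (hz : Halving z) (hxz : Commute x z) {a : α} (ha : x a ≠ a) :
    z a ≠ a := by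
  intro h
  have h2 : z (x a) = x a := by rw [← mul_apply, ← hxz.eq, mul_apply, h]
  exact ha ((Set.ncard_le_one (Set.toFinite _)).1 hz.fixed_le (x a) h2 a h)

/-- The value of a commuting halving involution at a moved point. -/
theorem Halving.apply_eq_half {z x : Perm α} (hz : Halving z) (hxz : Commute x z) (hd : Distinct x)
    (hx : ∃ k : ℕ, orderOf x = 2 ^ k) {a : α} (ha : x a ≠ a) :
    ∃ u, minimalPeriod x a = 2 ^ (u + 1) ∧ z a = (x ^ (2 ^ u)) a := by
  obtain ⟨v, hv⟩ := period_eq_two_pow x hx a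
  obtain ⟨u, rfl⟩ : ∃ u, v = u + 1 := by
    rcases v with _ | u
    · exact absurd ((period_eq_one_iff x a).1 (by rw [hv, pow_zero])) ha
    · exact ⟨u, rfl⟩
  refine ⟨u, hv, ?_⟩
  obtain ⟨i, hi⟩ := hd.sameCycle a (z a) ha (period_apply_of_commute hxz a).symm
  have h2 : (x ^ (2 * i)) a = a := by
    rw [two_mul, zpow_add, mul_apply, hi, ← mul_apply, (hxz.zpow_left i).eq, mul_apply, hi, hz.apply_apply]
  rw [zpow_apply_eq_iff_dvd, hv] at h2
  push_cast at h2
  rw [pow_succ', mul_dvd_mul_iff_left (by norm_num : (2 : ℤ) ≠ 0)] at h2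
  obtain ⟨j, rfl⟩ := h2
  rcases Int.even_or_odd j with ⟨l, rfl⟩ | ⟨l, rfl⟩
  · exfalso
    refine hz.apply_ne hxz ha ?_
    rw [← hi, zpow_apply_eq_iff_dvd, hv]
    exact ⟨l, by push_cast; ring⟩
  · rw [← hi, show ((2 : ℤ) ^ u) * (2 * l + 1) = ((2 ^ u : ℕ) : ℤ) + ((2 : ℤ) ^ (u + 1)) * l by push_cast; ring,
      zpow_add, zpow_natCast, mul_apply, (zpow_apply_eq_iff_dvd x a _).2]
    rw [hv]
    exact ⟨l, by push_cast; ring⟩

theorem Halving.unique {z z' x : Perm α} (hz : Halving z) (hz' : Halving z') (hxz : Commute x z)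
    (hxz' : Commute x z') (hd : Distinct x) (hx : ∃ k : ℕ, orderOf x = 2 ^ k) : z = z' := by
  refine Equiv.ext fun a => ?_
  by_cases ha : x a = a
  swap
  · obtain ⟨u, hu, h1⟩ := hz.apply_eq_half hxz hd hx ha
    obtain ⟨u', hu', h1'⟩ := hz'.apply_eq_half hxz' hd hx ha
    have : u = u' := by
      have := Nat.pow_right_injective le_rfl (hu.symm.trans hu')
      omega
    rw [h1, h1', this]
  -- fixed points of `x`
  have hfix : ∀ {w : Perm α}, Commute x w → x (w a) = w a := fun {w} h => by
    rw [← mul_apply, h.eq, mul_apply, ha]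
  by_contra hne
  by_cases h1 : z a = a
  · have h1' : z' a ≠ a := fun h => hne (h1.trans h.symm)
    -- then `z'` moves `a` to a fixed point of `x` that `z` must fix as well
    have hb : z (z' a) ≠ z' a := fun h =>
      h1' ((Set.ncard_le_one (Set.toFinite _)).1 hz.fixed_le (z' a) h a h1)
    have hsub : ({a, z' a, z (z' a)} : Set α) ⊆ {c | x c = c} := by
      rintro c (rfl | rfl | rfl)
      · exact ha
      · exact hfix hxz'
      · change x (z (z' a)) = z (z' a)
        rw [← mul_apply, hxz.eq, mul_apply, hfix hxz']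
    have := (Set.ncard_le_ncard hsub).trans hd.fixed_le
    rw [Set.ncard_eq_three.2 ⟨a, z' a, z (z' a), Ne.symm h1', ?_, Ne.symm hb, rfl⟩] at this
    · omega
    · exact fun h => h1' (by
        have := congrArg z h
        rw [h1, hz.apply_apply] at this
        exact this.symm)
  · by_cases h1' : z' a = a
    · have hb : z' (z a) ≠ z a := fun h =>
        h1 ((Set.ncard_le_one (Set.toFinite _)).1 hz'.fixed_le (z a) h a h1')
      have hsub : ({a, z a, z' (z a)} : Set α) ⊆ {c | x c = c} := by
        rintro c (rfl | rfl | rfl)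
        · exact ha
        · exact hfix hxz
        · change x (z' (z a)) = z' (z a)
          rw [← mul_apply, hxz'.eq, mul_apply, hfix hxz]
      have := (Set.ncard_le_ncard hsub).trans hd.fixed_le
      rw [Set.ncard_eq_three.2 ⟨a, z a, z' (z a), Ne.symm h1, ?_, Ne.symm hb, rfl⟩] at this
      · omega
      · exact fun h => h1 (by
          have := congrArg z' h
          rw [h1', hz'.apply_apply] at this
          exact this.symm)
    · have hsub : ({a, z a, z' a} : Set α) ⊆ {c | x c = c} := by
        rintro c (rfl | rfl | rfl)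
        · exact ha
        · exact hfix hxz
        · exact hfix hxz'
      have := (Set.ncard_le_ncard hsub).trans hd.fixed_le
      rw [Set.ncard_eq_three.2 ⟨a, z a, z' a, Ne.symm h1, Ne.symm h1', hne, rfl⟩] at this
      omega

/-- The pairs interchanged by `z`. -/
abbrev Pair (z : Perm α) : Type _ := {s : Finset α // ∃ a, z a ≠ a ∧ s = {a, z a}}

theorem image_pair {z g : Perm α} (h : Commute g z) (a : α) :
    ({a, z a} : Finset α).image g = {g a, z (g a)} := by
  rw [Finset.image_insert, Finset.image_singleton, ← mul_apply g z, h.eq, mul_apply]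

/-- The action of the centralizer of `z` on its pairs. -/
noncomputable def pairPerm (z : Perm α) :
    Subgroup.centralizer ({z} : Set (Perm α)) →* Perm (Pair z) :=
  MonoidHom.mk'
    (fun g => Equiv.ofBijective
      (fun s => ⟨s.1.image (g : Perm α), by
        obtain ⟨a, ha, hs⟩ := s.2
        have hc : Commute (g : Perm α) z := Subgroup.mem_centralizer_singleton_iff.1 g.2
        refine ⟨(g : Perm α) a, fun h => ha ?_, by rw [hs, image_pair hc]⟩
        apply (g : Perm α).injective
        rw [← mul_apply, hc.eq, mul_apply, h]⟩)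
      (Finite.injective_iff_bijective.1 fun s t h =>
        Subtype.ext (Finset.image_injective (g : Perm α).injective (congrArg Subtype.val h))))
    (fun g h => Equiv.ext fun s => Subtype.ext (by
      change s.1.image (((g : Perm α) * h : Perm α)) = (s.1.image (h : Perm α)).image (g : Perm α)
      rw [Finset.image_image]; rfl))

theorem pairPerm_apply (z : Perm α) (g : Subgroup.centralizer ({z} : Set (Perm α))) (s : Pair z) :
    (pairPerm z g s).1 = s.1.image (g : Perm α) := rfl

theorem Halving.card_pair {z : Perm α} (hz : Halving z) : Fintype.card (Pair z) = Fintype.card α / 2 := by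
  have h := Finset.card_eq_sum_card_image (fun a => ({a, z a} : Finset α))
    (Finset.univ.filter fun a => z a ≠ a)
  rw [hz.ncard_moved, Finset.sum_const_nat (m := 2)] at h
  · have h2 : ((Finset.univ.filter fun a => z a ≠ a).image fun a => ({a, z a} : Finset α)).card =
        Fintype.card (Pair z) := by
      rw [← Nat.card_eq_fintype_card, ← Set.ncard_coe_finset, ← Nat.card_coe_set_eq]
      refine Nat.card_congr (Equiv.subtypeEquivRight fun s => ?_)
      simp [eq_comm]
    omega
  · intro s hs
    obtain ⟨a, ha, rfl⟩ := Finset.mem_image.1 hs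
    have hza : z a ≠ a := (Finset.mem_filter.1 ha).2
    rw [show ((Finset.univ.filter fun a => z a ≠ a).filter fun b => ({b, z b} : Finset α) = {a, z a}) =
      {a, z a} from ?_, Finset.card_pair (Ne.symm hza)]
    ext b
    simp only [Finset.mem_filter, Finset.mem_univ, true_and]
    constructor
    · rintro ⟨-, h⟩
      rw [← h]; exact Finset.mem_insert_self _ _
    · intro hb
      rcases Finset.mem_insert.1 hb with rfl | hb
      · exact ⟨hza, rfl⟩
      · rw [Finset.mem_singleton.1 hb, hz.apply_apply]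
        exact ⟨Ne.symm hza, Finset.pair_comm _ _⟩

theorem Halving.card_ker_le {z : Perm α} (hz : Halving z) :
    Nat.card (pairPerm z).ker ≤ 2 ^ (Fintype.card α / 2) := by
  let f : (pairPerm z).ker → (Pair z → Bool) := fun g s => decide (∀ a ∈ s.1, (g.1 : Perm α) a = a)
  have hcard : Nat.card (Pair z → Bool) = 2 ^ (Fintype.card α / 2) := by
    rw [Nat.card_fun, Nat.card_eq_fintype_card (α := Pair z), hz.card_pair, Nat.card_eq_fintype_card,
      Fintype.card_bool]
  rw [← hcard]
  refine Nat.card_le_card_of_injective f fun g g' hgg => ?_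
  refine Subtype.ext (Subtype.ext (Equiv.ext fun a => ?_))
  have hc : ∀ h : (pairPerm z).ker, Commute (h.1 : Perm α) z := fun h =>
    Subgroup.mem_centralizer_singleton_iff.1 h.1.2
  by_cases ha : z a = a
  · have key : ∀ h : (pairPerm z).ker, (h.1 : Perm α) a = a := fun h =>
      (Set.ncard_le_one (Set.toFinite _)).1 hz.fixed_le _
        (show z ((h.1 : Perm α) a) = (h.1 : Perm α) a by rw [← mul_apply, ← (hc h).eq, mul_apply, ha]) a ha
    rw [key g, key g']
  · have hmem : ∀ h : (pairPerm z).ker, (h.1 : Perm α) a = a ∨ (h.1 : Perm α) a = z a := by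
      intro h
      have hk : pairPerm z h.1 = 1 := h.2
      have h1 := congrArg (fun e : Perm (Pair z) => (e ⟨{a, z a}, a, ha, rfl⟩).1) hk
      have h2 : ({a, z a} : Finset α).image (h.1 : Perm α) = {a, z a} := h1
      have h3 : (h.1 : Perm α) a ∈ ({a, z a} : Finset α) := by
        rw [← h2]; exact Finset.mem_image_of_mem _ (Finset.mem_insert_self _ _)
      simpa using h3
    have hiff : ∀ h : (pairPerm z).ker, f h ⟨{a, z a}, a, ha, rfl⟩ = true ↔ (h.1 : Perm α) a = a := by
      intro h
      simp only [f, decide_eq_true_eq]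
      constructor
      · exact fun h' => h' a (Finset.mem_insert_self _ _)
      · intro h' b hb
        rcases Finset.mem_insert.1 hb with rfl | hb
        · exact h'
        · rw [Finset.mem_singleton.1 hb, ← mul_apply, (hc h).eq, mul_apply, h']
    have he : (g.1 : Perm α) a = a ↔ (g'.1 : Perm α) a = a := by
      rw [← hiff g, ← hiff g', hgg]
    rcases hmem g with h1 | h1 <;> rcases hmem g' with h2 | h2
    · rw [h1, h2]
    · exact absurd (h2.symm.trans (he.1 h1)) ha
    · exact absurd (h1.symm.trans (he.2 h2)) ha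
    · rw [h1, h2]

theorem factorization_factorial_half (n : ℕ) :
    (n.factorial).factorization 2 = n / 2 + ((n / 2).factorial).factorization 2 := by
  have : Fact (Nat.Prime 2) := ⟨Nat.prime_two⟩
  rw [Nat.factorization_def _ Nat.prime_two, Nat.factorization_def _ Nat.prime_two]
  conv_lhs => rw [← Nat.div_add_mod n 2]
  rw [padicValNat_factorial_mul_add _ (Nat.mod_lt _ two_pos), padicValNat_factorial_mul]
  ring

/-- The image of a Sylow 2-subgroup on the pairs is a Sylow 2-subgroup, and it contains the kernel. -/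
theorem Halving.sylow_map {z : Perm α} (hz : Halving z) (T : Sylow 2 (Perm α))
    (hT : (T : Subgroup (Perm α)) ≤ Subgroup.centralizer {z}) :
    (pairPerm z).ker ≤ (T : Subgroup (Perm α)).subgroupOf _ ∧
      ∃ T' : Sylow 2 (Perm (Pair z)),
        (T' : Subgroup (Perm (Pair z))) = ((T : Subgroup (Perm α)).subgroupOf _).map (pairPerm z) := by
  have : Fact (Nat.Prime 2) := ⟨Nat.prime_two⟩
  set T0 := (T : Subgroup (Perm α)).subgroupOf (Subgroup.centralizer {z}) with hT0
  have hcard : Nat.card T0 = 2 ^ (Fintype.card α / 2 + ((Fintype.card α / 2).factorial).factorization 2) := by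
    rw [hT0, Nat.card_congr (Subgroup.subgroupOfEquivOfLe hT).toEquiv, T.card_eq_multiplicity,
      Nat.card_perm, Nat.card_eq_fintype_card, factorization_factorial_half]
  have hp : IsPGroup 2 T0 := T.isPGroup'.of_equiv (Subgroup.subgroupOfEquivOfLe hT).symm
  have hp' : IsPGroup 2 (T0.map (pairPerm z)) := hp.map _
  obtain ⟨i, hi⟩ := IsPGroup.iff_card.1 hp'
  obtain ⟨S, hS⟩ := hp'.exists_le_sylow
  have hScard : Nat.card (S : Subgroup (Perm (Pair z))) = 2 ^ ((Fintype.card α / 2).factorial).factorization 2 := by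
    rw [S.card_eq_multiplicity, Nat.card_perm, Nat.card_eq_fintype_card, hz.card_pair]
  have hile : i ≤ ((Fintype.card α / 2).factorial).factorization 2 := by
    have := Subgroup.card_dvd_of_le hS
    rw [hi, hScard] at this
    exact (Nat.pow_dvd_pow_iff_le_right (by norm_num)).1 this
  have hmul := Subgroup.relIndex_mul_relIndex (⊥ : Subgroup _) (T0 ⊓ (pairPerm z).ker) T0 bot_le inf_le_left
  rw [Subgroup.relIndex_bot_left, Subgroup.relIndex_bot_left, hcard, Subgroup.inf_relIndex_left,
    Subgroup.relIndex_ker, hi] at hmul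
  have hle : Nat.card (T0 ⊓ (pairPerm z).ker : Subgroup _) ≤ Nat.card (pairPerm z).ker :=
    Nat.le_of_dvd Nat.card_pos (Subgroup.card_dvd_of_le inf_le_right)
  have hker := hz.card_ker_le
  have h2i : 2 ^ i ≤ 2 ^ ((Fintype.card α / 2).factorial).factorization 2 := Nat.pow_le_pow_right (by norm_num) hile
  rw [pow_add] at hmul
  have hpos : 0 < 2 ^ i := Nat.two_pow_pos i
  have hpos' : 0 < 2 ^ (Fintype.card α / 2) := Nat.two_pow_pos _
  have hA : Nat.card (T0 ⊓ (pairPerm z).ker : Subgroup _) = 2 ^ (Fintype.card α / 2) := by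
    nlinarith
  have hB : 2 ^ i = 2 ^ ((Fintype.card α / 2).factorial).factorization 2 := by
    rw [hA] at hmul
    exact Nat.eq_of_mul_eq_mul_left hpos' hmul
  refine ⟨?_, S, (Subgroup.eq_of_le_of_card_ge hS ?_).symm⟩
  · have : T0 ⊓ (pairPerm z).ker = (pairPerm z).ker :=
      Subgroup.eq_of_le_of_card_ge inf_le_right (hker.trans hA.ge)
    exact this ▸ inf_le_left
  · rw [hi, hScard, hB]

theorem Halving.pairPerm_pow_apply_iff {z x : Perm α} (hz : Halving z) (hxC : x ∈ Subgroup.centralizer {z})
    (hd : Distinct x) (hx : ∃ k : ℕ, orderOf x = 2 ^ k) {a : α} (ha : z a ≠ a) (hxa : x a ≠ a)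
    (i : ℤ) :
    ((pairPerm z ⟨x, hxC⟩) ^ i) ⟨{a, z a}, a, ha, rfl⟩ = ⟨{a, z a}, a, ha, rfl⟩ ↔
      (minimalPeriod x a : ℤ) ∣ 2 * i := by
  rw [← map_zpow, ← Subtype.coe_inj, pairPerm_apply, Subgroup.coe_zpow]
  have hxz : Commute x z := Subgroup.mem_centralizer_singleton_iff.1 hxC
  obtain ⟨u, hu, hhalf⟩ := hz.apply_eq_half hxz hd hx hxa
  change ({a, z a} : Finset α).image (x ^ i : Perm α) = {a, z a} ↔ _
  rw [image_pair (hxz.zpow_left i), hu]
  push_cast
  rw [pow_succ', mul_dvd_mul_iff_left (by norm_num : (2 : ℤ) ≠ 0)]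
  constructor
  · intro h
    have h3 : (x ^ i) a ∈ ({a, z a} : Finset α) := by rw [← h]; exact Finset.mem_insert_self _ _
    rcases Finset.mem_insert.1 h3 with h4 | h4
    · rw [zpow_apply_eq_iff_dvd, hu] at h4
      refine dvd_trans ?_ h4
      exact ⟨2, by push_cast; ring⟩
    · rw [Finset.mem_singleton, hhalf] at h4
      have h5 : (x ^ (i - (2 ^ u : ℕ))) a = a := by
        rw [zpow_sub, (Commute.zpow_zpow_self x i _).inv_right.eq, mul_apply, h4, ← mul_apply, ← zpow_natCast,
          inv_mul_cancel, one_apply]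
      rw [zpow_apply_eq_iff_dvd, hu] at h5
      have h6 : (2 : ℤ) ^ u ∣ i - ((2 ^ u : ℕ) : ℤ) := dvd_trans ⟨2, by push_cast; ring⟩ h5
      push_cast at h6
      exact (dvd_sub_self_right).1 h6
  · rintro ⟨j, rfl⟩
    rcases Int.even_or_odd j with ⟨l, rfl⟩ | ⟨l, rfl⟩
    · rw [show (x ^ ((2 : ℤ) ^ u * (l + l))) a = a by
        rw [zpow_apply_eq_iff_dvd, hu]; exact ⟨l, by push_cast; ring⟩]
    · rw [show (x ^ ((2 : ℤ) ^ u * (2 * l + 1))) a = z a by
        rw [show ((2 : ℤ) ^ u) * (2 * l + 1) = ((2 ^ u : ℕ) : ℤ) + ((2 : ℤ) ^ (u + 1)) * l by push_cast; ring,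
          zpow_add, zpow_natCast, mul_apply, (zpow_apply_eq_iff_dvd x a _).2, hhalf]
        rw [hu]; exact ⟨l, by push_cast; ring⟩, hz.apply_apply, Finset.pair_comm]

theorem Halving.fixed_pair_apply {z x : Perm α} (hz : Halving z) (hxC : x ∈ Subgroup.centralizer {z})
    {a : α} {ha : z a ≠ a}
    (h : pairPerm z ⟨x, hxC⟩ ⟨{a, z a}, a, ha, rfl⟩ = ⟨{a, z a}, a, ha, rfl⟩) :
    x a = a ∨ (x a = z a ∧ x (z a) = a) := by
  rw [← Subtype.coe_inj, pairPerm_apply] at h
  have hxz : Commute x z := Subgroup.mem_centralizer_singleton_iff.1 hxC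
  have h3 : x a ∈ ({a, z a} : Finset α) := by
    have h' : ({a, z a} : Finset α).image x = {a, z a} := h
    rw [← h']; exact Finset.mem_image_of_mem _ (Finset.mem_insert_self _ _)
  rcases Finset.mem_insert.1 h3 with h4 | h4
  · exact Or.inl h4
  · rw [Finset.mem_singleton] at h4
    exact Or.inr ⟨h4, by rw [← mul_apply, hxz.eq, mul_apply, h4, hz.apply_apply]⟩

theorem Halving.distinct_pairPerm {z x : Perm α} (hz : Halving z) (hxC : x ∈ Subgroup.centralizer {z})
    (hd : Distinct x) (hx : ∃ k : ℕ, orderOf x = 2 ^ k) : Distinct (pairPerm z ⟨x, hxC⟩) := by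
  have hxz : Commute x z := Subgroup.mem_centralizer_singleton_iff.1 hxC
  constructor
  · -- at most two fixed pairs
    classical
    have hsub : (⋃ s ∈ {s | pairPerm z ⟨x, hxC⟩ s = s}, ((s : Pair z).1 : Set α)) ⊆
        {a | x a = a} ∪ {a | minimalPeriod x a = 2} := by
      intro b hb
      simp only [Set.mem_iUnion, exists_prop] at hb
      obtain ⟨⟨_, a, ha, rfl⟩, hs, hb⟩ := hb
      rcases hz.fixed_pair_apply hxC (ha := ha) hs with h | ⟨h1, h2⟩
      · left
        rcases Finset.mem_insert.1 hb with rfl | hb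
        · exact h
        · rw [Finset.mem_singleton.1 hb]
          change x (z a) = z a
          rw [← mul_apply, hxz.eq, mul_apply, h]
      · right
        have key : ∀ c, x c ≠ c → x (x c) = c → minimalPeriod x c = 2 := by
          intro c hc hcc
          have h3 : minimalPeriod x c ∣ 2 := (pow_apply_eq_iff_dvd x c 2).1 (by rw [pow_two, mul_apply, hcc])
          rcases (Nat.dvd_prime Nat.prime_two).1 h3 with h4 | h4
          · exact absurd ((period_eq_one_iff x c).1 h4) hc
          · exact h4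
        rcases Finset.mem_insert.1 hb with rfl | hb
        · exact key _ (by rw [h1]; exact ha) (by rw [h1, h2])
        · rw [Finset.mem_singleton.1 hb]
          exact key _ (by rw [h2]; exact Ne.symm ha) (by rw [h2, h1])
    have htwo : {a | minimalPeriod x a = 2}.ncard ≤ 2 := by
      rcases Set.eq_empty_or_nonempty {a | minimalPeriod x a = 2} with h | ⟨a, ha⟩
      · rw [h, Set.ncard_empty]; norm_num
      · have hxa : x a ≠ a := fun h => by
          have h1 := (period_eq_one_iff x a).2 h
          rw [show minimalPeriod x a = 2 from ha] at h1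
          norm_num at h1
        refine le_trans (Set.ncard_le_ncard (t := {a, x a}) ?_) ((Set.ncard_insert_le _ _).trans (by rw [Set.ncard_singleton]))
        intro b hb
        obtain ⟨i, rfl⟩ := hd.sameCycle a b hxa ((ha : _ = 2).trans (hb : _ = 2).symm)
        rcases Int.even_or_odd i with ⟨l, rfl⟩ | ⟨l, rfl⟩
        · left
          rw [zpow_apply_eq_iff_dvd, ha]; exact ⟨l, by push_cast; ring⟩
        · right
          rw [Set.mem_singleton_iff, add_comm, zpow_add, zpow_one, mul_apply,
            (zpow_apply_eq_iff_dvd x a _).2]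
          rw [ha]; exact ⟨l, by push_cast; ring⟩
    have h4 : (⋃ s ∈ {s | pairPerm z ⟨x, hxC⟩ s = s}, ((s : Pair z).1 : Set α)).ncard ≤ 4 :=
      (Set.ncard_le_ncard hsub).trans ((Set.ncard_union_le _ _).trans (by have := hd.fixed_le; omega))
    have h5 : ((({s | pairPerm z ⟨x, hxC⟩ s = s} : Set (Pair z)).toFinset).biUnion fun s => s.1).card =
        2 * ({s | pairPerm z ⟨x, hxC⟩ s = s} : Set (Pair z)).ncard := by
      rw [Finset.card_biUnion, Finset.sum_const_nat (m := 2), Set.ncard_eq_toFinset_card', mul_comm]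
      · rintro ⟨_, a, ha, rfl⟩ -
        exact Finset.card_pair (Ne.symm ha)
      · rintro ⟨_, a, ha, rfl⟩ - ⟨_, b, hb, rfl⟩ - hne
        rw [Function.onFun, Finset.disjoint_left]
        intro c hca hcb
        refine hne (Subtype.ext ?_)
        have key : ∀ d : α, c ∈ ({d, z d} : Finset α) → ({d, z d} : Finset α) = {c, z c} := by
          intro d hcd
          rcases Finset.mem_insert.1 hcd with rfl | h
          · rfl
          · rw [Finset.mem_singleton.1 h, hz.apply_apply, Finset.pair_comm]
        exact (key a hca).trans (key b hcb).symm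
    rw [← Set.ncard_coe_finset, Finset.coe_biUnion, Set.coe_toFinset] at h5
    omega
  · rintro ⟨_, a, ha, rfl⟩ ⟨_, b, hb, rfl⟩ hmv hper
    have hxa : x a ≠ a := by
      intro h
      refine hmv (Subtype.ext ?_)
      rw [pairPerm_apply]
      change ({a, z a} : Finset α).image x = {a, z a}
      rw [image_pair hxz, h]
    have hxb : x b ≠ b := by
      intro h
      have h1 : minimalPeriod (pairPerm z ⟨x, hxC⟩) ⟨{b, z b}, b, hb, rfl⟩ = 1 := by
        refine (period_eq_one_iff _ _).2 (Subtype.ext ?_)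
        rw [pairPerm_apply]
        change ({b, z b} : Finset α).image x = {b, z b}
        rw [image_pair hxz, h]
      exact hmv ((period_eq_one_iff _ _).1 (hper.trans h1))
    obtain ⟨u, hu, -⟩ := hz.apply_eq_half hxz hd hx hxa
    obtain ⟨v, hv, -⟩ := hz.apply_eq_half hxz hd hx hxb
    have hdvd : ∀ i : ℤ, (minimalPeriod x a : ℤ) ∣ 2 * i ↔ (minimalPeriod x b : ℤ) ∣ 2 * i := by
      intro i
      rw [← hz.pairPerm_pow_apply_iff hxC hd hx ha hxa, ← hz.pairPerm_pow_apply_iff hxC hd hx hb hxb,
        zpow_apply_eq_iff_dvd, zpow_apply_eq_iff_dvd, hper]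
    have h1 := (hdvd (2 ^ u)).1 (by rw [hu]; exact ⟨1, by push_cast; ring⟩)
    have h2 := (hdvd (2 ^ v)).2 (by rw [hv]; exact ⟨1, by push_cast; ring⟩)
    rw [hv] at h1
    rw [hu] at h2
    have e1 : v + 1 ≤ u + 1 := by
      refine (Nat.pow_dvd_pow_iff_le_right (x := 2) (by norm_num)).1 ?_
      rw [pow_succ' 2 u]; exact_mod_cast h1
    have e2 : u + 1 ≤ v + 1 := by
      refine (Nat.pow_dvd_pow_iff_le_right (x := 2) (by norm_num)).1 ?_
      rw [pow_succ' 2 v]; exact_mod_cast h2
    obtain ⟨i, hi⟩ := hd.sameCycle a b hxa (by rw [hu, hv, show u = v by omega])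
    refine ⟨i, Subtype.ext ?_⟩
    rw [← map_zpow, pairPerm_apply, Subgroup.coe_zpow]
    change ({a, z a} : Finset α).image (x ^ i : Perm α) = {b, z b}
    rw [image_pair (hxz.zpow_left i), hi]

theorem Distinct.unique_sylow : ∀ (n : ℕ) {β : Type*} [Fintype β] [DecidableEq β],
    Fintype.card β = n → ∀ (x : Perm β), Distinct x → (∃ k : ℕ, orderOf x = 2 ^ k) →
      ∀ T T' : Sylow 2 (Perm β), x ∈ T → x ∈ T' → T = T' := by
  intro n
  induction n using Nat.strong_induction_on with
  | _ n ih =>
  intro β _ _ hn x hd hx T T' hT hT'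
  rcases Nat.eq_zero_or_pos n with h0 | hpos
  · have : IsEmpty β := Fintype.card_eq_zero_iff.1 (hn.trans h0)
    exact Sylow.ext (Subsingleton.elim _ _)
  obtain ⟨z, hz, hTz⟩ := exists_halving_of_sylow T
  obtain ⟨z', hz', hTz'⟩ := exists_halving_of_sylow T'
  have heq : z = z' := hz.unique hz' (Subgroup.mem_centralizer_singleton_iff.1 (hTz hT))
    (Subgroup.mem_centralizer_singleton_iff.1 (hTz' hT')) hd hx
  subst heq
  have hxC : x ∈ Subgroup.centralizer {z} := hTz hT
  obtain ⟨hk, S, hS⟩ := hz.sylow_map T hTz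
  obtain ⟨hk', S', hS'⟩ := hz.sylow_map T' hTz'
  have hxS : pairPerm z ⟨x, hxC⟩ ∈ S := by
    rw [← SetLike.mem_coe]
    change _ ∈ (S : Subgroup (Perm (Pair z)))
    rw [hS]; exact ⟨⟨x, hxC⟩, hT, rfl⟩
  have hxS' : pairPerm z ⟨x, hxC⟩ ∈ S' := by
    rw [← SetLike.mem_coe]
    change _ ∈ (S' : Subgroup (Perm (Pair z)))
    rw [hS']; exact ⟨⟨x, hxC⟩, hT', rfl⟩
  obtain ⟨k, hord⟩ := hx
  have hord' : ∃ j, orderOf (pairPerm z ⟨x, hxC⟩) = 2 ^ j := by
    have h1 : orderOf (pairPerm z ⟨x, hxC⟩) ∣ 2 ^ k := by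
      have := orderOf_map_dvd (pairPerm z) ⟨x, hxC⟩
      rwa [Subgroup.orderOf_mk, hord] at this
    obtain ⟨j, -, hj⟩ := (Nat.dvd_prime_pow Nat.prime_two).1 h1
    exact ⟨j, hj⟩
  have hSS : S = S' := ih (n / 2) (Nat.div_lt_self hpos one_lt_two) (hz.card_pair.trans (by rw [hn])) _
    (hz.distinct_pairPerm hxC hd ⟨k, hord⟩) hord' S S' hxS hxS'
  have h := congrArg (Subgroup.comap (pairPerm z)) (hS.symm.trans ((congrArg _ hSS).trans hS'))
  rw [Subgroup.comap_map_eq, Subgroup.comap_map_eq, sup_eq_left.2 hk, sup_eq_left.2 hk'] at h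
  refine Sylow.ext ?_
  have h2 := congrArg (Subgroup.map (Subgroup.centralizer {z}).subtype) h
  rwa [Subgroup.map_subgroupOf_eq_of_le hTz, Subgroup.map_subgroupOf_eq_of_le hTz'] at h2

/-- A halving involution centralising a Sylow 2-subgroup is determined by it. -/
theorem Halving.eq_of_sylow_le {z z' : Perm α} (hz : Halving z) (hz' : Halving z') (T : Sylow 2 (Perm α))
    (hT : (T : Subgroup (Perm α)) ≤ Subgroup.centralizer {z})
    (hT' : (T : Subgroup (Perm α)) ≤ Subgroup.centralizer {z'}) : z = z' := by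
  refine Equiv.ext fun a => ?_
  have hswap : ∀ b, z b ≠ b → swap b (z b) ∈ Subgroup.centralizer ({z} : Set (Perm α)) := by
    intro b _
    rw [Subgroup.mem_centralizer_singleton_iff]
    have h : z * swap b (z b) * z⁻¹ = swap (z b) (z (z b)) := (Equiv.swap_apply_apply z b (z b)).symm
    rw [hz.apply_apply, swap_comm (z b) b, mul_inv_eq_iff_eq_mul] at h
    exact h.symm
  have hpres : ∀ b, z b ≠ b → z' b ∈ ({b, z b} : Finset α) := by
    intro b hb
    have hmem : swap b (z b) ∈ (T : Subgroup (Perm α)) := by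
      have hker : (⟨_, hswap b hb⟩ : Subgroup.centralizer ({z} : Set (Perm α))) ∈ (pairPerm z).ker := by
        refine MonoidHom.mem_ker.2 (Equiv.ext fun s => Subtype.ext ?_)
        rw [pairPerm_apply]
        obtain ⟨c, hc, hs⟩ := s.2
        change s.1.image (swap b (z b)) = s.1
        rw [hs, image_pair (Subgroup.mem_centralizer_singleton_iff.1 (hswap b hb))]
        rcases eq_or_ne c b with rfl | h1
        · rw [swap_apply_left, hz.apply_apply, Finset.pair_comm]
        rcases eq_or_ne c (z b) with rfl | h2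
        · rw [swap_apply_right, hz.apply_apply, Finset.pair_comm]
        · rw [swap_apply_of_ne_of_ne h1 h2]
      exact (hz.sylow_map T hT).1 hker
    have hc : swap b (z b) * z' = z' * swap b (z b) := Subgroup.mem_centralizer_singleton_iff.1 (hT' hmem)
    by_contra hne
    simp only [Finset.mem_insert, Finset.mem_singleton, not_or] at hne
    have h1 := congrArg (fun e : Perm α => e b) hc
    simp only [mul_apply, swap_apply_left, swap_apply_of_ne_of_ne hne.1 hne.2] at h1
    exact hb (z'.injective h1).symm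
  by_cases ha : z a = a
  · rw [ha]
    by_contra hne
    -- otherwise `z'` maps `a` to a point moved by `z`
    have hza : z (z' a) ≠ z' a := fun h =>
      hne ((Set.ncard_le_one (Set.toFinite _)).1 hz.fixed_le (z' a) h a ha).symm
    have h2 := hpres _ hza
    rw [hz'.apply_apply, Finset.mem_insert, Finset.mem_singleton] at h2
    rcases h2 with h2 | h2
    · exact hne h2
    · have h3 := congrArg z h2
      rw [hz.apply_apply, ha] at h3
      exact hne h3
  · have h2 := hpres a ha
    rw [Finset.mem_insert, Finset.mem_singleton] at h2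
    rcases h2 with h2 | h2
    · exfalso
      have h3 := hpres (z a) (fun h => ha (z.injective h))
      rw [hz.apply_apply, Finset.mem_insert, Finset.mem_singleton] at h3
      rcases h3 with h3 | h3
      · exact ha ((Set.ncard_le_one (Set.toFinite _)).1 hz'.fixed_le (z a) h3 a h2)
      · exact ha (z'.injective (h3.trans h2.symm))
    · exact h2.symm

/-- If there is a unique Sylow 2-subgroup containing `x` the cycles of `x` have distinct lengths. -/
theorem distinct_of_unique {x : Perm α} (hx : ∃ k : ℕ, orderOf x = 2 ^ k)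
    (huniq : ∀ T T' : Sylow 2 (Perm α), x ∈ T → x ∈ T' → T = T') (T : Sylow 2 (Perm α)) (hT : x ∈ T) :
    Distinct x := by
  obtain ⟨z, hz, hTz⟩ := exists_halving_of_sylow T
  have hxz : Commute x z := Subgroup.mem_centralizer_singleton_iff.1 (hTz hT)
  have hzu : ∀ z', Halving z' → Commute x z' → z' = z := by
    intro z' hz' hxz'
    obtain ⟨T', hxT', hT'z⟩ := exists_sylow_le_centralizer hz' hxz' hx
    obtain rfl := huniq T T' hT hxT'
    exact hz'.eq_of_sylow_le hz T hT'z hTz
  have hcent : ∀ g : Perm α, Commute x g → Commute g z := by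
    intro g hg
    have h1 : Halving (g * z * g⁻¹) :=
      halving_of_cycleType (by rw [cycleType_conj]; exact hz.cycleType_eq)
    have h2 := hzu _ h1 ((hg.mul_right hxz).mul_right hg.inv_right)
    rwa [mul_inv_eq_iff_eq_mul] at h2
  constructor
  · by_contra hc
    rw [not_le, Set.two_lt_ncard_iff (Set.toFinite _)] at hc
    obtain ⟨a, b, c, ha, hb, hc, hab, hac, hbc⟩ := hc
    have hswap : ∀ {p q : α}, x p = p → x q = q → Commute x (swap p q) := by
      intro p q hp hq
      have h : x * swap p q * x⁻¹ = swap (x p) (x q) := (Equiv.swap_apply_apply x p q).symm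
      rw [hp, hq, mul_inv_eq_iff_eq_mul] at h
      exact h
    have key : ∀ {p q r : α}, x p = p → x q = q → x r = r → p ≠ q → p ≠ r → q ≠ r → z p = p := by
      intro p q r hp hq hr hpq hpr hqr
      by_contra hne
      have h1 := congrArg (fun e : Perm α => e p) (hcent _ (hswap hp hq)).eq
      have h2 := congrArg (fun e : Perm α => e p) (hcent _ (hswap hp hr)).eq
      simp only [mul_apply, swap_apply_left] at h1 h2
      rcases eq_or_ne (z p) q with h3 | h3
      · rw [swap_apply_of_ne_of_ne hne (by rw [h3]; exact hqr)] at h2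
        exact hpr (z.injective h2)
      · rw [swap_apply_of_ne_of_ne hne h3] at h1
        exact hpq (z.injective h1)
    exact hab ((Set.ncard_le_one (Set.toFinite _)).1 hz.fixed_le a (key ha hb hc hab hac hbc) b
      (key hb ha hc (Ne.symm hab) hbc hac))
  · intro a b ha hper
    by_contra hns
    classical
    have hbmv : x b ≠ b := fun h =>
      ha ((period_eq_one_iff x a).1 (hper.trans ((period_eq_one_iff x b).2 h)))
    have hiff : ∀ i : ℤ, (x ^ i) a = a ↔ (x ^ i) b = b := fun i => by
      rw [zpow_apply_eq_iff_dvd, zpow_apply_eq_iff_dvd, hper]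
    have hwd : ∀ {p q : α}, (∀ i : ℤ, (x ^ i) p = p → (x ^ i) q = q) → ∀ i j : ℤ,
        (x ^ i) p = (x ^ j) p → (x ^ i) q = (x ^ j) q := by
      intro p q h i j hij
      have h1 : (x ^ (i - j)) p = p := by
        rw [zpow_sub, (Commute.zpow_zpow_self x i j).inv_right.eq, mul_apply, hij, ← mul_apply,
          inv_mul_cancel, one_apply]
      have h2 := h _ h1
      rw [zpow_sub, (Commute.zpow_zpow_self x i j).inv_right.eq, mul_apply] at h2
      exact (Perm.inv_eq_iff_eq).1 h2 |> fun e => e
    -- `z` preserves each of the two cycles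
    have hzc : ∀ {p : α}, x p ≠ p → ∀ {y : α}, x.SameCycle p y → x.SameCycle p (z y) := by
      intro p hp y hy
      have hcy : Commute x (x.cycleOf p) := (self_mem_cycle_factors_commute
        (cycleOf_mem_cycleFactorsFinset_iff.2 (mem_support.2 hp))).symm
      have hym : y ∈ (x.cycleOf p).support := (mem_support_cycleOf_iff' hp).2 hy
      exact (mem_support_cycleOf_iff' hp).1 (commute_mem_support (hcent _ hcy) hym)
    let f : α → α := fun y => if h : x.SameCycle a y then (x ^ h.choose) b
      else if h' : x.SameCycle b y then (x ^ h'.choose) a else z y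
    have hfa : ∀ i : ℤ, f ((x ^ i) a) = (x ^ i) b := by
      intro i
      have h : x.SameCycle a ((x ^ i) a) := ⟨i, rfl⟩
      simp only [f, dif_pos h]
      exact hwd (fun j => (hiff j).1) _ _ h.choose_spec
    have hfb : ∀ i : ℤ, f ((x ^ i) b) = (x ^ i) a := by
      intro i
      have hn : ¬ x.SameCycle a ((x ^ i) b) := fun h => hns (sameCycle_zpow_right.1 h)
      have h : x.SameCycle b ((x ^ i) b) := ⟨i, rfl⟩
      simp only [f, dif_neg hn, dif_pos h]
      exact hwd (fun j => (hiff j).2) _ _ h.choose_spec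
    have hfo : ∀ y, ¬ x.SameCycle a y → ¬ x.SameCycle b y → f y = z y := by
      intro y h1 h2
      simp only [f, dif_neg h1, dif_neg h2]
    have hout : ∀ y, ¬ x.SameCycle a y → ¬ x.SameCycle b y →
        ¬ x.SameCycle a (z y) ∧ ¬ x.SameCycle b (z y) := fun y h1 h2 =>
      ⟨fun h => h1 (by have h' := hzc ha h; rwa [hz.apply_apply] at h'),
        fun h => h2 (by have h' := hzc hbmv h; rwa [hz.apply_apply] at h')⟩
    have hinv : Function.Involutive f := by
      intro y
      by_cases h1 : x.SameCycle a y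
      · obtain ⟨i, rfl⟩ := h1; rw [hfa, hfb]
      by_cases h2 : x.SameCycle b y
      · obtain ⟨i, rfl⟩ := h2; rw [hfb, hfa]
      · rw [hfo y h1 h2, hfo _ (hout y h1 h2).1 (hout y h1 h2).2, hz.apply_apply]
    have hcomm : Commute x (hinv.toPerm f) := by
      refine Equiv.ext fun y => ?_
      change x (f y) = f (x y)
      by_cases h1 : x.SameCycle a y
      · obtain ⟨i, rfl⟩ := h1
        rw [hfa, ← mul_apply x (x ^ i) a, ← zpow_one_add, hfa, zpow_one_add, mul_apply]
      by_cases h2 : x.SameCycle b y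
      · obtain ⟨i, rfl⟩ := h2
        rw [hfb, ← mul_apply x (x ^ i) b, ← zpow_one_add, hfb, zpow_one_add, mul_apply]
      · rw [hfo y h1 h2, hfo _ (fun h => h1 (sameCycle_apply_right.1 h)) (fun h => h2 (sameCycle_apply_right.1 h))]
        exact congrArg (fun e : Perm α => e y) hxz.eq
    have hhalv : Halving (hinv.toPerm f) := by
      refine ⟨Equiv.ext hinv, le_trans (Set.ncard_le_ncard ?_) hz.fixed_le⟩
      intro y hy
      have hy' : f y = y := hy
      by_cases h1 : x.SameCycle a y
      · obtain ⟨i, rfl⟩ := h1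
        rw [hfa] at hy'
        exact absurd (sameCycle_zpow_right.1 (⟨i, hy'.symm⟩ : x.SameCycle a ((x ^ i) b))) hns
      by_cases h2 : x.SameCycle b y
      · obtain ⟨i, rfl⟩ := h2
        rw [hfb] at hy'
        exact absurd (sameCycle_zpow_right.1 (⟨i, hy'⟩ : x.SameCycle a ((x ^ i) b))) hns
      · exact (hfo y h1 h2).symm.trans hy'
    have h := congrArg (fun e : Perm α => e a) (hzu _ hhalv hcomm)
    have h' : f a = z a := h
    rw [show f a = b by simpa using hfa 0] at h'
    exact hns (h' ▸ hzc ha (SameCycle.refl x a))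

theorem card_support_cycleOf_eq_period {x : Perm α} {a : α} (ha : x a ≠ a) :
    (x.cycleOf a).support.card = minimalPeriod x a := by
  rw [← (isCycle_cycleOf x ha).orderOf]
  refine Nat.dvd_antisymm (orderOf_dvd_of_pow_eq_one ?_) ((pow_apply_eq_iff_dvd x a _).1 ?_)
  · refine (IsCycle.pow_eq_one_iff (isCycle_cycleOf x ha)).2
      ⟨a, by rw [cycleOf_apply_self]; exact ha, ?_⟩
    rw [cycleOf_pow_apply_self, (pow_apply_eq_iff_dvd x a _).2 dvd_rfl]
  · rw [← cycleOf_pow_apply_self, pow_orderOf_eq_one, one_apply]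

theorem distinct_iff (x : Perm α) :
    Distinct x ↔ Fintype.card α ≤ x.support.card + 2 ∧ x.cycleType.Nodup := by
  have hfix : {a | x a = a}.ncard + x.support.card = Fintype.card α := by
    have h1 : {a | x a = a} = ((x.supportᶜ : Finset α) : Set α) := by ext a; simp
    rw [h1, Set.ncard_coe_finset, Finset.card_compl]
    have := Finset.card_le_univ x.support
    omega
  have hnd : x.cycleType.Nodup ↔
      ∀ c ∈ x.cycleFactorsFinset, ∀ d ∈ x.cycleFactorsFinset, c.support.card = d.support.card → c = d := by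
    rw [cycleType_def]
    exact Multiset.nodup_map_iff_inj_on x.cycleFactorsFinset.nodup
  constructor
  · intro hd
    refine ⟨by have := hd.fixed_le; omega, hnd.2 ?_⟩
    intro c hc d hd' hcd
    obtain ⟨hcC, hcx⟩ := mem_cycleFactorsFinset_iff.1 hc
    obtain ⟨hdC, hdx⟩ := mem_cycleFactorsFinset_iff.1 hd'
    obtain ⟨a, ha⟩ := hcC.nonempty_support
    obtain ⟨b, hb⟩ := hdC.nonempty_support
    have hxa : x a ≠ a := mem_support.1 (mem_cycleFactorsFinset_support_le hc ha)
    have hxb : x b ≠ b := mem_support.1 (mem_cycleFactorsFinset_support_le hd' hb)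
    have e1 := cycle_is_cycleOf ha hc
    have e2 := cycle_is_cycleOf hb hd'
    rw [e1, e2]
    refine (SameCycle.cycleOf_eq (hd.sameCycle a b hxa ?_))
    rw [← card_support_cycleOf_eq_period hxa, ← card_support_cycleOf_eq_period hxb, ← e1, ← e2, hcd]
  · rintro ⟨h1, h2⟩
    refine ⟨by omega, fun a b ha hab => ?_⟩
    have hb : x b ≠ b := fun h => ha ((period_eq_one_iff x a).1 (hab.trans ((period_eq_one_iff x b).2 h)))
    have h := hnd.1 h2 _ (cycleOf_mem_cycleFactorsFinset_iff.2 (mem_support.2 ha))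
      _ (cycleOf_mem_cycleFactorsFinset_iff.2 (mem_support.2 hb))
      (by rw [card_support_cycleOf_eq_period ha, card_support_cycleOf_eq_period hb, hab])
    have hm : b ∈ (x.cycleOf a).support := by
      rw [h]
      exact (mem_support_cycleOf_iff' hb).2 (SameCycle.refl x b)
    exact (mem_support_cycleOf_iff' ha).1 hm

end CfsgLib.SymTwo
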